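import Cfsg.Agent.Lib.Known.BalancePSU.Small
import Cfsg.Agent.Lib.Known.PSpSemi.Balance
import Cfsg.Agent.Lib.Classical.Unitary.MatrixStructure

/-!
# The local balance data of a field automorphism of odd order of `PSU` (owner: helper8)
-/

set_option autoImplicit false
set_option linter.unusedSectionVars false

open Matrix

namespace CfsgLib.Known.BalancePSU

open CfsgLib.Classical
open CfsgLib.Known.AutPSL (glMap coe_glMap)
open CfsgLib.Known.AutPSU
open CfsgLib.Known.AutPSU.FieldCent (fieldU emb scalar_mem comm_fieldU_iff guInn_eq_one_iff scalar_val)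
open CfsgLib.Known.PSpSemi (fixF mem_fixF)

variable {n : ℕ}

section small

variable {K : Type*} [Field K] [Fintype K] {q₀ : ℕ}

/-- A monomial element that survives in `PSU`. -/
theorem exists_perm_psu (hK : Fintype.card K = q₀ ^ 2) (hn : 3 ≤ n) (π : Equiv.Perm (Fin n))
    (hsign : Equiv.Perm.sign π = 1) (hπ : π ≠ 1) :
    ∃ s : Cfsg.SU n K q₀, (QuotientGroup.mk s : Cfsg.PSU n K q₀) ≠ 1 ∧
      ∀ k : ℕ, π ^ k = 1 → s ^ k = 1 := by
  classical
  obtain ⟨s, hs⟩ := exists_mono_SU (q := q₀) (fun _ => (1 : K)) π (fun i => by simp) (by simp [hsign])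
  have hs' : ((s : Matrix.SpecialLinearGroup (Fin n) K) : Matrix (Fin n) (Fin n) K) = π.permMatrix K := by
    rw [hs, mono_eq, diagonal_one, one_mul]
  refine ⟨s, fun h => ?_, fun k hk => ?_⟩
  · obtain ⟨c, hc⟩ := scalar_of_mem_center hK hn s ((QuotientGroup.eq_one_iff s).1 h)
    obtain ⟨i, hi⟩ : ∃ i, π i ≠ i := by
      by_contra hcon
      push Not at hcon
      exact hπ (Equiv.ext hcon)
    have := congrFun₂ (hs'.symm.trans hc) i (π i)
    simp [Ne.symm hi] at this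
  · have hpow : ∀ k : ℕ, (((s ^ k : Cfsg.SU n K q₀) : Matrix.SpecialLinearGroup (Fin n) K) :
        Matrix (Fin n) (Fin n) K) = (π ^ k).permMatrix K := by
      intro k
      induction k with
      | zero => simp
      | succ k ih =>
        rw [pow_succ, Subgroup.coe_mul, Matrix.SpecialLinearGroup.coe_mul, ih, hs', pow_succ',
          permMatrix_mul]
    refine Subtype.ext (Subtype.ext ?_)
    rw [hpow, hk]
    simp

theorem dvd_card_psu (hK : Fintype.card K = q₀ ^ 2) (hn : 3 ≤ n) {p : ℕ} [hp : Fact p.Prime] (hp2 : p ≠ 2)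
    (hpn : p ≤ n) : p ∣ Nat.card (Cfsg.PSU n K q₀) := by
  classical
  have hd : p ∣ n.factorial := Nat.dvd_factorial hp.out.pos hpn
  rw [← Fintype.card_fin n, ← Fintype.card_perm, ← Nat.card_eq_fintype_card] at hd
  obtain ⟨π, hπ⟩ := exists_prime_orderOf_dvd_card' p hd
  have hπp : π ^ p = 1 := by rw [← hπ, pow_orderOf_eq_one]
  have hsign : Equiv.Perm.sign π = 1 := by
    have h1 : Equiv.Perm.sign π ^ p = 1 := by rw [← map_pow, hπp, map_one]
    obtain ⟨t, ht⟩ := hp.out.odd_of_ne_two hp2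
    rwa [ht, pow_succ, pow_mul, Int.units_sq, one_pow, one_mul] at h1
  obtain ⟨s, hs1, hsp⟩ := exists_perm_psu hK hn π hsign fun h => by
    rw [h, orderOf_one] at hπ
    exact hp.out.one_lt.ne hπ
  rw [← orderOf_eq_prime (p := p) (x := (QuotientGroup.mk s : Cfsg.PSU n K q₀))
    (by rw [← QuotientGroup.mk_pow, hsp p hπp, QuotientGroup.mk_one]) hs1]
  exact orderOf_dvd_natCard _

theorem psu_no_core (hK : Fintype.card K = q₀ ^ 2) (hn : 3 ≤ n) {p : ℕ} [hp : Fact p.Prime] (hp2 : p ≠ 2)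
    (hdvd : p ∣ Nat.card (Cfsg.PSU n K q₀)) (M : Subgroup (Cfsg.PSU n K q₀)) [M.Normal]
    (hM : ¬ p ∣ Nat.card M) : M = ⊥ := by
  by_cases hex : n = 3 → q₀ ≠ 2
  · haveI := Herm.isSimpleGroup_PSU' hK n hn hex
    rcases ‹M.Normal›.eq_bot_or_eq_top with h | h
    · exact h
    · rw [h, Subgroup.card_top] at hM
      exact absurd hdvd hM
  push Not at hex
  obtain ⟨rfl, rfl⟩ := hex
  have h4 : Fintype.card K = 4 := hK
  obtain ⟨hcard, -⟩ := Herm.psu_three_two h4
  rw [hcard, show (72 : ℕ) = 2 ^ 3 * 3 ^ 2 by norm_num] at hdvd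
  have hp3 : p = 3 := by
    rcases hp.out.dvd_mul.1 hdvd with h | h
    · exact absurd ((Nat.prime_dvd_prime_iff_eq hp.out Nat.prime_two).1 (hp.out.dvd_of_dvd_pow h)) hp2
    · exact (Nat.prime_dvd_prime_iff_eq hp.out Nat.prime_three).1 (hp.out.dvd_of_dvd_pow h)
  subst hp3
  exact psu_small_core h4 M hM

/-- A semilinear map intertwining `SU` projectively is a scalar. -/
theorem eq_scalar_projective (hK : Fintype.card K = q₀ ^ 2) (hn : 3 ≤ n) (N : GL (Fin n) K) (ρ : K ≃+* K)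
    (h : ∀ s : Cfsg.SU n K q₀, ∃ c : K, (N : Matrix (Fin n) (Fin n) K) *
      ((s : Matrix.SpecialLinearGroup (Fin n) K) : Matrix (Fin n) (Fin n) K).map ρ =
      c • (((s : Matrix.SpecialLinearGroup (Fin n) K) : Matrix (Fin n) (Fin n) K) *
        (N : Matrix (Fin n) (Fin n) K))) :
    ρ = RingEquiv.refl K ∧ ∃ c : Kˣ, (N : Matrix (Fin n) (Fin n) K) = (c : K) • 1 := by
  by_cases hex : n = 3 → q₀ ≠ 2
  · exact eq_scalar_of_intertwine_projective hK hn hex N ρ h
  push Not at hex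
  obtain ⟨rfl, rfl⟩ := hex
  exact eq_scalar_small hK N ρ h

end small

variable {F : Type*} [Field F] [Fintype F] {q : ℕ} (hF : Fintype.card F = q ^ 2)
  (hn : 3 ≤ n) (hex : n = 3 → q ≠ 2)
  {F₀ : Type*} [Field F₀] [Fintype F₀] {q₀ : ℕ} (hF₀ : Fintype.card F₀ = q₀ ^ 2)
  (j : F₀ →+* F) {σ : F ≃+* F} (hj : ∀ a : F, σ a = a ↔ a ∈ j.range)
  (hjf : ∀ x : F₀, frob hF (j x) = j (frob hF₀ x))

/-- The automorphisms induced by the special unitary group over the fixed field. -/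
noncomputable def omega0 (n : ℕ) : Cfsg.SU n F₀ q₀ →* MulAut (Cfsg.PSU n F q) :=
  ((guInn n hF).comp (emb hF hF₀ j hjf)).comp (Herm.suToGU n F₀ q₀)

theorem omega0_eq (s : Cfsg.SU n F₀ q₀) :
    omega0 hF hF₀ j hjf n s = guInn n hF (emb hF hF₀ j hjf (Herm.suToGU n F₀ q₀ s)) := rfl

include hn hex in
theorem omega0_mem_inn (s : Cfsg.SU n F₀ q₀) :
    omega0 hF hF₀ j hjf n s ∈ Cfsg.Inn (Cfsg.PSU n F q) := by
  refine guInn_mem_inn hF hn hex _ ?_
  show ((((s : Matrix.SpecialLinearGroup (Fin n) F₀) : Matrix (Fin n) (Fin n) F₀).map j)).det = 1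
  rw [← RingHom.mapMatrix_apply, ← RingHom.map_det, Matrix.SpecialLinearGroup.det_coe, map_one]

include hn hex hj in
theorem omega0_comm (s : Cfsg.SU n F₀ q₀) :
    omega0 hF hF₀ j hjf n s * fieldU n hF σ = fieldU n hF σ * omega0 hF hF₀ j hjf n s :=
  (comm_fieldU_iff hF hn hex σ _).2 ⟨1, by
    rw [Units.val_one, one_smul]
    exact Matrix.ext fun a b => (hj _).2 ⟨_, rfl⟩⟩

include hn hex in
theorem ker_omega0 : (omega0 hF hF₀ j hjf n).ker = Subgroup.center (Cfsg.SU n F₀ q₀) := by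
  haveI : Nonempty (Fin n) := ⟨⟨0, by omega⟩⟩
  ext s
  rw [MonoidHom.mem_ker, omega0_eq, guInn_eq_one_iff hF hn hex]
  set S := ((s : Matrix.SpecialLinearGroup (Fin n) F₀) : Matrix (Fin n) (Fin n) F₀)
  show (∃ c : Fˣ, S.map j = (c : F) • 1) ↔ _
  constructor
  · rintro ⟨c, hc⟩
    let i0 : Fin n := ⟨0, by omega⟩
    have h2 : j (S i0 i0) = (c : F) := by simpa using congrFun₂ hc i0 i0
    have hS : S = S i0 i0 • 1 := by
      ext a b
      apply j.injective
      have h1 := congrFun₂ hc a b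
      rw [Matrix.map_apply] at h1
      rw [h1]
      by_cases hab : a = b <;> simp [hab, h2]
    refine Subgroup.mem_center_iff.2 fun t => Subtype.ext (Subtype.ext ?_)
    show ((t : Matrix.SpecialLinearGroup (Fin n) F₀) : Matrix (Fin n) (Fin n) F₀) * S =
      S * ((t : Matrix.SpecialLinearGroup (Fin n) F₀) : Matrix (Fin n) (Fin n) F₀)
    rw [hS, Matrix.mul_smul, Matrix.smul_mul, mul_one, one_mul]
  · intro hs
    obtain ⟨c, hc⟩ := scalar_of_mem_center hF₀ hn s hs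
    refine ⟨Units.map (j : F₀ →* F) c, ?_⟩
    rw [show S = (c : F₀) • 1 from hc, Matrix.map_smul' _ _ _ (map_mul j),
      Matrix.map_one _ (map_zero _) (map_one _)]
    rfl

include hn hj hjf in
/-- An automorphism commuting with the field automorphism and the small group. -/
theorem mem_zpowers_of_comm (hex : n = 3 → q ≠ 2) {p f r : ℕ} [Fact p.Prime] [Fact r.Prime]
    (hcard : Fintype.card F = r ^ f) (hf : 1 ≤ f) (hord : orderOf σ = p)
    (y : MulAut (Cfsg.PSU n F q)) (hy : y * fieldU n hF σ = fieldU n hF σ * y)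
    (hω : ∀ s, omega0 hF hF₀ j hjf n s * y = y * omega0 hF hF₀ j hjf n s) :
    y ∈ Subgroup.zpowers (fieldU n hF σ) := by
  classical
  obtain ⟨g, θ, hg, rfl⟩ := exists_semi hF hn hex y
  change uSemi hF g θ * uSemi hF 1 σ = uSemi hF 1 σ * uSemi hF g θ at hy
  rw [uSemi_mul, uSemi_mul, map_one, mul_one, one_mul, uSemi_eq_iff hF hn hex] at hy
  obtain ⟨hθσ, hpr⟩ := hy
  obtain ⟨u, h, hgh⟩ := AutPSU.FieldCent.decompose hF hn hF₀ j hj hjf ⟨(g : GL (Fin n) F), hg⟩
    ((pr_eq_iff (g : GL (Fin n) F) (glMap σ (g : GL (Fin n) F))).1 hpr)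
  have hgv : ((g : GL (Fin n) F) : Matrix (Fin n) (Fin n) F) =
      ((u : Fˣ) : F) • ((h : GL (Fin n) F₀) : Matrix (Fin n) (Fin n) F₀).map j := by
    have h1 := congrArg (fun x : Cfsg.GU n F q => ((x : GL (Fin n) F) : Matrix (Fin n) (Fin n) F)) hgh
    simp only [Subgroup.coe_mul, Units.val_mul, scalar_val, Matrix.smul_mul, one_mul] at h1
    exact h1
  have hcomm : ∀ x, θ (σ x) = σ (θ x) := fun x => RingEquiv.congr_fun hθσ x
  have hex' : ∀ x, ∃ w, j w = θ (j x) := fun x => (hj _).1 (by rw [← hcomm, (hj _).2 ⟨x, rfl⟩])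
  choose t ht using hex'
  let t' : F₀ →+* F₀ :=
    { toFun := t
      map_one' := j.injective (by rw [ht, map_one, map_one])
      map_mul' := fun a b => j.injective (by rw [ht, map_mul, map_mul, map_mul, ht, ht])
      map_zero' := j.injective (by rw [ht, map_zero, map_zero])
      map_add' := fun a b => j.injective (by rw [ht, map_add, map_add, map_add, ht, ht]) }
  let θ₀ : F₀ ≃+* F₀ := RingEquiv.ofBijective t'
    ⟨t'.injective, Finite.surjective_of_injective t'.injective⟩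
  have hθ₀ : ∀ x, j (θ₀ x) = θ (j x) := ht
  obtain ⟨hρ, c, hc⟩ := eq_scalar_projective hF₀ hn (h : GL (Fin n) F₀) θ₀ fun s => by
    have h7 := hω s
    set S := Subgroup.inclusion (GU_le_uGL hF) (emb hF hF₀ j hjf (Herm.suToGU n F₀ q₀ s))
    change uSemi hF S (RingEquiv.refl F) * uSemi hF g θ = uSemi hF g θ * uSemi hF S (RingEquiv.refl F) at h7
    rw [uSemi_mul, uSemi_mul, uSemi_eq_iff hF hn hex] at h7
    obtain ⟨c, hc⟩ := (pr_eq_iff _ _).1 h7.2
    set H := ((h : GL (Fin n) F₀) : Matrix (Fin n) (Fin n) F₀)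
    set s0 := ((s : Matrix.SpecialLinearGroup (Fin n) F₀) : Matrix (Fin n) (Fin n) F₀)
    have hc' : ((g : GL (Fin n) F) : Matrix (Fin n) (Fin n) F) * (s0.map j).map θ =
        (c : F) • (s0.map j * ((g : GL (Fin n) F) : Matrix (Fin n) (Fin n) F)) := hc
    rw [show (s0.map j).map θ = (s0.map θ₀).map j from Matrix.ext fun a b => (hθ₀ _).symm, hgv,
      Matrix.smul_mul, Matrix.mul_smul, ← Matrix.map_mul, ← Matrix.map_mul, smul_comm] at hc'
    have hu0 : ((u : Fˣ) : F) ≠ 0 := (u : Fˣ).ne_zero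
    have hc2 : (H * s0.map θ₀).map j = (c : F) • (s0 * H).map j := smul_right_injective _ hu0 hc'
    obtain ⟨a, b, hab⟩ : ∃ a b, (s0 * H) a b ≠ 0 := by
      by_contra hcon
      push Not at hcon
      haveI : Nonempty (Fin n) := ⟨⟨0, by omega⟩⟩
      have h0 := congrArg Matrix.det (Matrix.ext hcon : s0 * H = 0)
      rw [det_mul, Matrix.SpecialLinearGroup.det_coe, one_mul, det_zero] at h0
      exact (GeneralLinearGroup.det (h : GL (Fin n) F₀)).ne_zero h0
    have hcj : (c : F) = j ((H * s0.map θ₀) a b / (s0 * H) a b) := by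
      rw [map_div₀, eq_div_iff (by simpa using hab)]
      exact (congrFun₂ hc2 a b).symm
    refine ⟨(H * s0.map θ₀) a b / (s0 * H) a b, Matrix.ext fun x y => j.injective ?_⟩
    rw [Matrix.smul_apply, smul_eq_mul, map_mul, ← hcj]
    exact congrFun₂ hc2 x y
  have hfix : ∀ a : fixF σ, θ a = a := fun a => by
    obtain ⟨b, hb⟩ := (hj (a : F)).1 a.2
    rw [← hb, ← hθ₀, hρ, RingEquiv.refl_apply]
  obtain ⟨i, hi⟩ := PSpSemi.mem_zpowers_of_fix σ hcard hf hord θ hfix
  have hy1 : uSemi hF g θ = fieldU n hF θ := by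
    refine (uSemi_eq_iff hF hn hex _ _ _ _).2 ⟨rfl, ?_⟩
    rw [OneMemClass.coe_one, map_one, pr_eq_one_iff]
    refine ⟨(u : Fˣ) * Units.map (j : F₀ →* F) c, ?_⟩
    rw [hgv, hc, Matrix.map_smul' _ _ _ (map_mul j), Matrix.map_one _ (map_zero j) (map_one j), smul_smul]
    rfl
  rw [hy1]
  exact ⟨i, by show fieldU n hF σ ^ i = _; rw [← map_zpow, show σ ^ i = θ from hi]⟩

include hn hex in
theorem exists_su (h : Cfsg.GU n F₀ q₀)
    (hd : ((h : GL (Fin n) F₀) : Matrix (Fin n) (Fin n) F₀).det = 1) :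
    ∃ s, guInn n hF (emb hF hF₀ j hjf h) = omega0 hF hF₀ j hjf n s := by
  let S : Matrix.SpecialLinearGroup (Fin n) F₀ := ⟨_, hd⟩
  have hS : Matrix.SpecialLinearGroup.toGL S = (h : GL (Fin n) F₀) := Units.ext rfl
  have hmem : Matrix.SpecialLinearGroup.toGL S ∈ Cfsg.GU n F₀ q₀ := hS ▸ h.2
  let s : Cfsg.SU n F₀ q₀ := ⟨S, hmem⟩
  refine ⟨s, ?_⟩
  rw [omega0_eq]
  congr 2
  exact Subtype.ext hS.symm

include hn hex hj hjf in
theorem field_data {p f r : ℕ} [hp : Fact p.Prime] [Fact r.Prime] (hp2 : p ≠ 2)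
    (hcard : Fintype.card F = r ^ f) (hf : 1 ≤ f) (hord : orderOf σ = p) :
    Balance.Data p (fieldU n hF σ) := by
  classical
  haveI : Finite (MulAut (Cfsg.PSU n F q)) :=
    Finite.of_injective (fun a => (a : Cfsg.PSU n F q → Cfsg.PSU n F q)) DFunLike.coe_injective
  set C := Cfsg.Inn (Cfsg.PSU n F q) ⊓ Subgroup.centralizer {fieldU n hF σ}
  have hinner : ∀ y, y ∈ Cfsg.inndiagPSU n F q → y ∈ Subgroup.zpowers (fieldU n hF σ) → y = 1 := by
    rintro y hy ⟨i, rfl⟩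
    rw [← range_guInn hn hex hF] at hy
    obtain ⟨g, hg⟩ := hy
    change guInn n hF g = fieldU n hF σ ^ i at hg
    rw [← map_zpow] at hg
    have h1 := ((uSemi_eq_iff hF hn hex _ _ _ _).1 hg).1
    show fieldU n hF σ ^ i = 1
    rw [← map_zpow, ← h1]
    exact map_one _
  have hωC : ∀ s, omega0 hF hF₀ j hjf n s ∈ C := fun s => Subgroup.mem_inf.2
    ⟨omega0_mem_inn hF hn hex hF₀ j hjf s,
      Subgroup.mem_centralizer_singleton_iff.2 (omega0_comm hF hn hex hF₀ j hj hjf s)⟩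
  have hrep : ∀ c ∈ C, ∃ h : Cfsg.GU n F₀ q₀, c = guInn n hF (emb hF hF₀ j hjf h) := by
    intro c hc
    obtain ⟨hc1, hc2⟩ := Subgroup.mem_inf.1 hc
    have hc3 := inn_le_inndiagPSU hF hn hex hc1
    rw [← range_guInn hn hex hF] at hc3
    obtain ⟨g, rfl⟩ := hc3
    obtain ⟨u, h, rfl⟩ := AutPSU.FieldCent.decompose hF hn hF₀ j hj hjf g
      ((comm_fieldU_iff hF hn hex σ g).1 (Subgroup.mem_centralizer_singleton_iff.1 hc2))
    exact ⟨h, by rw [map_mul, (guInn_eq_one_iff hF hn hex ⟨_, scalar_mem hF u.2⟩).2 ⟨u, scalar_val _⟩, one_mul]⟩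
  let ω : Cfsg.PSU n F₀ q₀ →* MulAut (Cfsg.PSU n F q) :=
    QuotientGroup.lift _ (omega0 hF hF₀ j hjf n) (ker_omega0 hF hn hex hF₀ j hjf).ge
  have hω : ∀ s, ω (QuotientGroup.mk s) = omega0 hF hF₀ j hjf n s := fun _ => rfl
  have hωinj : Function.Injective ω :=
    (injective_iff_map_eq_one _).2 fun x hx => by
      obtain ⟨s, rfl⟩ := QuotientGroup.mk_surjective x
      exact (QuotientGroup.eq_one_iff s).2 (ker_omega0 hF hn hex hF₀ j hjf ▸ (MonoidHom.mem_ker.2 hx))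
  refine ⟨fun h => ?_, fun h => ?_, fun y hy1 hy2 => ?_, ?_⟩
  · have h1 := hinner _ (inn_le_inndiagPSU hF hn hex h) (Subgroup.mem_zpowers _)
    rw [← map_one (fieldU n hF)] at h1
    rw [FieldCent.fieldU_injective hF hn hex h1, orderOf_one] at hord
    exact hp.out.one_lt.ne hord
  · obtain ⟨s, hs, -⟩ := exists_perm_psu hF₀ hn
      (Equiv.swap (⟨0, by omega⟩ : Fin n) ⟨1, by omega⟩ * Equiv.swap ⟨1, by omega⟩ ⟨2, by omega⟩)
      (by
        rw [map_mul, Equiv.Perm.sign_swap fun e => absurd (congrArg Fin.val e) (by norm_num),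
          Equiv.Perm.sign_swap fun e => absurd (congrArg Fin.val e) (by norm_num)]
        rfl)
      (fun h => by
        have := congrArg (fun e : Equiv.Perm (Fin n) => e ⟨2, by omega⟩) h
        simp at this)
    have h1 := hωC s
    replace h1 := Subgroup.mem_bot.1 ((le_of_eq h) h1)
    rw [← hω, ← map_one ω] at h1
    exact hs (hωinj h1)
  · exact mem_zpowers_of_comm hF hn hF₀ j hj hjf hex hcard hf hord y hy1 fun s => hy2 _ (hωC s)
  intro hdvd N hNC hNn hNp
  have hWn : ∀ c ∈ C, ∀ x, c * ω x * c⁻¹ ∈ ω.range := fun c hc x => by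
    obtain ⟨h, rfl⟩ := hrep c hc
    obtain ⟨s, rfl⟩ := QuotientGroup.mk_surjective x
    rw [hω, omega0_eq, ← map_inv, ← map_mul, ← map_mul, ← map_inv (emb hF hF₀ j hjf),
      ← map_mul (emb hF hF₀ j hjf), ← map_mul (emb hF hF₀ j hjf)]
    obtain ⟨t, ht⟩ := exists_su hF hn hex hF₀ j hjf (h * Herm.suToGU n F₀ q₀ s * h⁻¹) (by
      rw [Subgroup.coe_mul, Subgroup.coe_mul, Subgroup.coe_inv, Units.val_mul, Units.val_mul, det_units_conj]
      exact (s : Matrix.SpecialLinearGroup (Fin n) F₀).2)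
    exact ⟨QuotientGroup.mk t, by rw [ht, hω]⟩
  have hdL : p ∣ Nat.card (Cfsg.PSU n F₀ q₀) := by
    by_cases hpn : p ∣ n
    · exact dvd_card_psu hF₀ hn hp2 (Nat.le_of_dvd (by omega) hpn)
    obtain ⟨⟨c, hc⟩, hco⟩ := exists_prime_orderOf_dvd_card' p hdvd
    rw [← Subgroup.orderOf_coe] at hco
    obtain ⟨h, rfl⟩ := hrep c hc
    set d := GeneralLinearGroup.det (h : GL (Fin n) F₀)
    let z : Cfsg.GU n F₀ q₀ := ⟨_, scalar_mem hF₀ ((normOne F₀ q₀).inv_mem (det_mem_normOne hF₀ h))⟩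
    obtain ⟨s, hs⟩ := exists_su hF hn hex hF₀ j hjf (z * h ^ n) (by
      rw [← GeneralLinearGroup.val_det_apply, Subgroup.coe_mul, SubmonoidClass.coe_pow, map_mul, map_pow,
        Units.val_mul, GeneralLinearGroup.val_det_apply, scalar_val, det_smul, Fintype.card_fin, det_one,
        mul_one, Units.val_pow_eq_pow_val, ← mul_pow, ← Units.val_mul, inv_mul_cancel, Units.val_one, one_pow])
    have hz1 : guInn n hF (emb hF hF₀ j hjf z) = 1 := by
      refine (guInn_eq_one_iff hF hn hex _).2 ⟨Units.map (j : F₀ →* F) d⁻¹, ?_⟩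
      show (((z : GL (Fin n) F₀) : Matrix (Fin n) (Fin n) F₀)).map j = _
      rw [scalar_val, Matrix.map_smul' _ _ _ (map_mul j), Matrix.map_one _ (map_zero _) (map_one _)]
      rfl
    have hmem : guInn n hF (emb hF hF₀ j hjf h) ^ n ∈ ω.range := by
      refine ⟨QuotientGroup.mk s, ?_⟩
      rw [hω, ← hs, map_mul, map_mul, hz1, one_mul, map_pow, map_pow]
    obtain ⟨k, hk⟩ := exists_pow_eq_self_of_coprime (x := guInn n hF (emb hF hF₀ j hjf h)) (n := n) (by
      rw [hco]; exact (hp.out.coprime_iff_not_dvd.2 hpn).symm)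
    have h3 : guInn n hF (emb hF hF₀ j hjf h) ∈ ω.range := hk ▸ pow_mem hmem k
    rw [Nat.card_congr (MonoidHom.ofInjective hωinj).toEquiv, ← hco, ← Subgroup.orderOf_mk _ h3]
    exact orderOf_dvd_natCard _
  haveI : (N.comap ω).Normal := ⟨fun x hx y => by
    obtain ⟨s, rfl⟩ := QuotientGroup.mk_surjective y
    rw [Subgroup.mem_comap, map_mul, map_mul, map_inv]
    exact hNn _ (hωC s) _ hx⟩
  have hbot : N.comap ω = ⊥ := psu_no_core hF₀ hn hp2 hdL _ fun h => hNp (h.trans (by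
    rw [← Subgroup.card_map_of_injective hωinj]
    exact Subgroup.card_dvd_of_le (Subgroup.map_comap_le ω N)))
  rw [eq_bot_iff]
  intro y hy
  rw [Subgroup.mem_bot]
  obtain ⟨hy1, hy2⟩ := Subgroup.mem_inf.1 (hNC hy)
  refine hinner y (inn_le_inndiagPSU hF hn hex hy1) (mem_zpowers_of_comm hF hn hF₀ j hj hjf hex hcard hf
    hord y (Subgroup.mem_centralizer_singleton_iff.1 hy2) fun s => ?_)
  obtain ⟨w, hw⟩ := hWn y (hNC hy) (QuotientGroup.mk s)
  have hmem : y * ω (QuotientGroup.mk s) * y⁻¹ * (ω (QuotientGroup.mk s))⁻¹ ∈ N := by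
    rw [show y * ω (QuotientGroup.mk s) * y⁻¹ * (ω (QuotientGroup.mk s))⁻¹ =
      y * (ω (QuotientGroup.mk s) * y⁻¹ * (ω (QuotientGroup.mk s))⁻¹) by group]
    exact mul_mem hy (hNn _ (hωC s) _ (inv_mem hy))
  rw [← hw, ← map_inv, ← map_mul] at hmem
  have h := Subgroup.mem_bot.1 (hbot ▸ (Subgroup.mem_comap.2 hmem))
  rw [mul_inv_eq_one] at h
  rw [h, hω] at hw
  calc omega0 hF hF₀ j hjf n s * y = y * omega0 hF hF₀ j hjf n s * y⁻¹ * y := by rw [← hw]
    _ = y * omega0 hF hF₀ j hjf n s := by group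

end CfsgLib.Known.BalancePSU
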