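import Cfsg.Agent.Lib.Known.BalancePSL.Main
import Cfsg.Agent.Lib.Known.AutPSU.GraphMain
import Cfsg.Agent.Lib.Known.AutPSU.GraphSplit
import Cfsg.Agent.Lib.Known.AutPSU.FieldCent
import Cfsg.Agent.Lib.Known.AutPSU.FieldCoset

/-!
# Graph involutions of `PSU`: trivial core and centralizer of even order (owner: helper8)
-/

set_option autoImplicit false
set_option linter.unusedSectionVars false

open Matrix

namespace CfsgLib.Known.BalancePSU

open CfsgLib.Classical
open CfsgLib.Known.AutPSL (glMap glIota innDiag semilin coe_glMap mkAut bv)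
open CfsgLib.Known.AutPSL.Graph (graphAut coe_glIota)
open CfsgLib.Known.AutPSU
open CfsgLib.Known.BalancePSL (core_map_bot_iff core_map_conj_mem core_map_card core_map_norm le_core_map
  odd_pow_eq_one)

variable {n : ℕ} {F : Type*} [Field F] [Fintype F] {q : ℕ} (hF : Fintype.card F = q ^ 2)
  (hn : 3 ≤ n) (hex : n = 3 → q ≠ 2)

include hn hex hF in
theorem center_psu_bot : Subgroup.center (Cfsg.PSU n F q) = ⊥ := by
  rw [eq_bot_iff]
  intro x hx
  obtain ⟨s, rfl⟩ := QuotientGroup.mk_surjective x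
  rw [Subgroup.mem_center_iff] at hx
  have h1 : MulAut.conj (QuotientGroup.mk s : Cfsg.PSU n F q) = 1 :=
    MulEquiv.ext fun y => by rw [MulAut.conj_apply, ← hx y, mul_inv_cancel_right]; rfl
  rw [conj_mk_eq_uInn hF, uInn_apply, uSemi_eq_one_iff hF hn hex] at h1
  obtain ⟨c, hc⟩ := (pr_eq_one_iff _).1 h1.2
  change ((s : Matrix.SpecialLinearGroup (Fin n) F) : Matrix (Fin n) (Fin n) F) = _ at hc
  rw [Subgroup.mem_bot]
  refine (QuotientGroup.eq_one_iff s).2
    (Subgroup.mem_center_iff.2 fun t => Subtype.ext (Subtype.ext ?_))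
  show ((t : Matrix.SpecialLinearGroup (Fin n) F) : Matrix (Fin n) (Fin n) F) *
      ((s : Matrix.SpecialLinearGroup (Fin n) F) : Matrix (Fin n) (Fin n) F) =
    ((s : Matrix.SpecialLinearGroup (Fin n) F) : Matrix (Fin n) (Fin n) F) *
      ((t : Matrix.SpecialLinearGroup (Fin n) F) : Matrix (Fin n) (Fin n) F)
  rw [hc, Matrix.mul_smul, Matrix.smul_mul, mul_one, one_mul]

include hn hex in
theorem guInn_mem_inn (g : Cfsg.GU n F q)
    (hd : ((g : GL (Fin n) F) : Matrix (Fin n) (Fin n) F).det = 1) :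
    guInn n hF g ∈ Cfsg.Inn (Cfsg.PSU n F q) := by
  let S : Matrix.SpecialLinearGroup (Fin n) F := ⟨_, hd⟩
  have hS : Matrix.SpecialLinearGroup.toGL S = (g : GL (Fin n) F) := Units.ext rfl
  have hmem : Matrix.SpecialLinearGroup.toGL S ∈ Cfsg.GU n F q := hS ▸ g.2
  let t : Cfsg.SU n F q := ⟨S, hmem⟩
  refine ⟨QuotientGroup.mk t, ?_⟩
  rw [conj_mk_eq_uInn hF]
  exact congrArg (uInn n hF) (Subtype.ext (Units.ext rfl))

include hn hex hF in
theorem inn_le_inndiagPSU : Cfsg.Inn (Cfsg.PSU n F q) ≤ Cfsg.inndiagPSU n F q := by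
  rintro _ ⟨x, rfl⟩
  obtain ⟨s, rfl⟩ := QuotientGroup.mk_surjective x
  rw [conj_mk_eq_uInn hF, inndiagPSU_eq hF hn hex]
  exact ⟨_, rfl⟩

include hn hex hF in
theorem commutator_mem_inn {a b : MulAut (Cfsg.PSU n F q)} (ha : a ∈ Cfsg.inndiagPSU n F q)
    (hb : b ∈ Cfsg.inndiagPSU n F q) : a * b * a⁻¹ * b⁻¹ ∈ Cfsg.Inn (Cfsg.PSU n F q) := by
  rw [← range_guInn hn hex hF] at ha hb
  obtain ⟨g, rfl⟩ := ha
  obtain ⟨h, rfl⟩ := hb
  rw [← map_inv, ← map_inv, ← map_mul, ← map_mul, ← map_mul]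
  refine guInn_mem_inn hF hn hex _ ?_
  rw [← GeneralLinearGroup.val_det_apply, Subgroup.coe_mul, Subgroup.coe_mul, Subgroup.coe_mul,
    Subgroup.coe_inv, Subgroup.coe_inv, map_mul, map_mul, map_mul, map_inv, map_inv,
    mul_comm (GeneralLinearGroup.det (g : GL (Fin n) F)), mul_inv_cancel_right, mul_inv_cancel,
    Units.val_one]

variable {F₀ : Type*} [Field F₀] [Fintype F₀] {j : F₀ →+* F}
  (hj : ∀ a : F, frob hF a = a ↔ a ∈ j.range)

include hn in
theorem core_inndiag_bot (h2 : (2 : F₀) ≠ 0) (A : GL (Fin n) F₀)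
    (hA : (A : Matrix (Fin n) (Fin n) F₀)ᵀ = (A : Matrix (Fin n) (Fin n) F₀) ∨
      (A : Matrix (Fin n) (Fin n) F₀)ᵀ = -(A : Matrix (Fin n) (Fin n) F₀)) :
    Cfsg.pPrimeCore 2 ↥(Cfsg.inndiagPSL n F₀ ⊓ Subgroup.centralizer {graphAut A}) = ⊥ := by
  rw [AutPSL.inndiagPSL_eq]
  exact BalancePSL.graph_core_bot hn h2 A ((AutPSL.Graph.graphAut_sq_iff hn A).2 hA) _
    AutPSL.inn_le_inndiag

include hn hex hj in
theorem core_inndiagU_bot (h2 : (2 : F₀) ≠ 0) {A : GL (Fin n) F₀} {γ : MulAut (Cfsg.PSU n F q)}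
    (hA : IsModel hn hex hF j A γ) :
    Cfsg.pPrimeCore 2 ↥(Cfsg.inndiagPSU n F q ⊓ Subgroup.centralizer {γ}) = ⊥ := by
  obtain ⟨e⟩ := centralizer_model hn hex hF hj hA
  obtain ⟨-, -, -, hgood, -, -⟩ := hA
  have h := core_inndiag_bot hn h2 A ((good_iff hn A).1 hgood)
  rw [← Components.pPrimeCore_map_equiv 2 e] at h
  exact (Subgroup.map_eq_bot_iff_of_injective _ e.injective).1 h

include hn hex hF in
/-- An odd normal subgroup of the centralizer meets the inner-diagonal part trivially. -/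
theorem core_meet_bot {γ : MulAut (Cfsg.PSU n F q)}
    (hD : Cfsg.pPrimeCore 2 ↥(Cfsg.inndiagPSU n F q ⊓ Subgroup.centralizer {γ}) = ⊥)
    (𝒢 : Subgroup (MulAut (Cfsg.PSU n F q))) (hA : Cfsg.Inn (Cfsg.PSU n F q) ≤ 𝒢)
    {y : MulAut (Cfsg.PSU n F q)}
    (hy : y ∈ (Cfsg.pPrimeCore 2 ↥(𝒢 ⊓ Subgroup.centralizer {γ})).map
      (𝒢 ⊓ Subgroup.centralizer {γ}).subtype) (hyD : y ∈ Cfsg.inndiagPSU n F q) : y = 1 := by
  haveI : Finite (MulAut (Cfsg.PSU n F q)) :=
    Finite.of_injective (fun a => (a : Cfsg.PSU n F q → Cfsg.PSU n F q)) DFunLike.coe_injective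
  set D := Cfsg.inndiagPSU n F q ⊓ Subgroup.centralizer {γ}
  set Z := 𝒢 ⊓ Subgroup.centralizer {γ}
  set L := 𝒢 ⊓ D
  set N := (Cfsg.pPrimeCore 2 ↥Z).map Z.subtype
  have hdL : ∀ d ∈ D, ∀ l ∈ L, d * l * d⁻¹ ∈ L := fun d hd l hl => by
    obtain ⟨hlA, hlD⟩ := Subgroup.mem_inf.1 hl
    refine Subgroup.mem_inf.2 ⟨?_, mul_mem (mul_mem hd hlD) (inv_mem hd)⟩
    have := mul_mem (hA (commutator_mem_inn hF hn hex (Subgroup.mem_inf.1 hd).1 (Subgroup.mem_inf.1 hlD).1)) hlA
    rwa [inv_mul_cancel_right] at this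
  have hLZ : L ≤ Z := fun l hl =>
    Subgroup.mem_inf.2 ⟨(Subgroup.mem_inf.1 hl).1, (Subgroup.mem_inf.1 (Subgroup.mem_inf.1 hl).2).2⟩
  set O := (Cfsg.pPrimeCore 2 ↥L).map L.subtype with hO
  have h1 : N ⊓ L ≤ O := le_core_map inf_le_right (fun l hl m hm => Subgroup.mem_inf.2
    ⟨core_map_conj_mem Z (hLZ hl) hm.1, mul_mem (mul_mem hl hm.2) (inv_mem hl)⟩)
    ((core_map_card Z).coprime_dvd_left (Subgroup.card_dvd_of_le inf_le_left))
  have h2 : O ≤ (Cfsg.pPrimeCore 2 ↥D).map D.subtype :=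
    le_core_map (fun o ho => (Subgroup.mem_inf.1 (Subgroup.map_subtype_le _ ho)).2)
      (fun d hd o ho => core_map_norm (fun l hl => ⟨hdL d hd l hl, by simpa using hdL d⁻¹ (inv_mem hd) l hl⟩) ho)
      (core_map_card L)
  have hyZ := Subgroup.mem_inf.1 (Subgroup.map_subtype_le _ hy)
  have h3 := h2 (h1 (Subgroup.mem_inf.2 ⟨hy, Subgroup.mem_inf.2 ⟨hyZ.1, Subgroup.mem_inf.2 ⟨hyD, hyZ.2⟩⟩⟩))
  rwa [(core_map_bot_iff D).2 hD, Subgroup.mem_bot] at h3

/-- `x` is realised by `B` through `h`. -/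
def Rep (j : F₀ →+* F) (B : GL (Fin n) F₀) (h : GL (Fin n) F) (x : uP n hF) : Prop :=
  (∃ k : Fˣ, glMap (frob hF) h = GeneralLinearGroup.scalar (Fin n) k * (glIota h * jGL n j B)) ∧
    (x : PG n F) = pr n F h * (pMap (frob hF) (pr n F h))⁻¹

theorem scalar_comm (k : Fˣ) (g : GL (Fin n) F) :
    g * GeneralLinearGroup.scalar (Fin n) k = GeneralLinearGroup.scalar (Fin n) k * g :=
  Units.ext (by ext a b; simp [mul_comm])

theorem glIota_jGL (g : GL (Fin n) F₀) : glIota (jGL n j g) = jGL n j (glIota g) := Units.ext rfl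

include hj in
theorem glMap_jGL (g : GL (Fin n) F₀) : glMap (frob hF) (jGL n j g) = jGL n j g :=
  Units.ext (Matrix.ext fun a b => (hj _).2 ⟨_, rfl⟩)

include hj in
theorem rep_congr {A B k0 : GL (Fin n) F₀} {h : GL (Fin n) F} {x : uP n hF} (hr : Rep hF j A h x)
    (hAB : A = k0 * B * (glIota k0)⁻¹) : Rep hF j B (h * jGL n j (glIota k0)) x := by
  obtain ⟨⟨k, hk⟩, hx⟩ := hr
  have hτ : glMap (frob hF) (jGL n j (glIota k0)) = jGL n j (glIota k0) := glMap_jGL hF hj _
  refine ⟨⟨k, ?_⟩, ?_⟩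
  · rw [map_mul, hτ, hk, ← gInv_apply (g := h * _), map_mul, gInv_apply, gInv_apply, glIota_jGL,
      glIota_glIota']
    simp only [mul_assoc, ← map_mul]
    rw [hAB, mul_assoc, mul_assoc, inv_mul_cancel, mul_one]
  · rw [hx, map_mul (pr n F), map_mul (pMap (frob hF)), pMap_pr, pMap_pr, hτ]
    group

include hn hex hj in
/-- The elements of the centralizer coming from the isometries over the fixed field. -/
theorem rep_elem {B : GL (Fin n) F₀} {h : GL (Fin n) F} {x : uP n hF} (hr : Rep hF j B h x)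
    (M : GL (Fin n) F₀) (hM : B * M = glIota M * B) :
    ∃ g : Cfsg.GU n F q, (g : GL (Fin n) F) = h * jGL n j M * h⁻¹ ∧
      ((g : GL (Fin n) F) : Matrix (Fin n) (Fin n) F).det = j (M : Matrix (Fin n) (Fin n) F₀).det ∧
      guInn n hF g * uGraph hn hex hF x = uGraph hn hex hF x * guInn n hF g := by
  obtain ⟨⟨k, hk⟩, hx⟩ := hr
  set g := h * jGL n j M * h⁻¹ with hg
  have hBM : jGL n j B * jGL n j M = glIota (jGL n j M) * jGL n j B := by
    rw [glIota_jGL, ← map_mul, ← map_mul, hM]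
  have hτ : glMap (frob hF) (jGL n j M) = jGL n j M := glMap_jGL hF hj _
  have hι : glIota g = glIota h * glIota (jGL n j M) * (glIota h)⁻¹ := by
    simp only [hg, ← gInv_apply, map_mul, map_inv]
  have hgu : g ∈ Cfsg.GU n F q := by
    rw [mem_GU_iff hF, hι]
    simp only [hg, map_mul, map_inv, hτ, hk]
    calc GeneralLinearGroup.scalar (Fin n) k * (glIota h * jGL n j B) * jGL n j M *
          (GeneralLinearGroup.scalar (Fin n) k * (glIota h * jGL n j B))⁻¹
        = GeneralLinearGroup.scalar (Fin n) k * (glIota h * (jGL n j B * jGL n j M * (jGL n j B)⁻¹) *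
            (glIota h)⁻¹) * (GeneralLinearGroup.scalar (Fin n) k)⁻¹ := by group
      _ = glIota h * glIota (jGL n j M) * (glIota h)⁻¹ := by
        rw [hBM, mul_inv_cancel_right, ← scalar_comm, mul_inv_cancel_right]
  refine ⟨⟨g, hgu⟩, rfl, ?_, ?_⟩
  · show (g : Matrix (Fin n) (Fin n) F).det = _
    rw [hg, ← GeneralLinearGroup.val_det_apply, map_mul, map_mul, map_inv, mul_comm (GeneralLinearGroup.det h),
      mul_inv_cancel_right, GeneralLinearGroup.val_det_apply, coe_jGL, ← RingHom.mapMatrix_apply,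
      ← RingHom.map_det]
  · rw [show guInn n hF ⟨g, hgu⟩ = uAutP hn hex hF (uProj n hF (Subgroup.inclusion (GU_le_uGL hF) ⟨g, hgu⟩))
      from (uAutP_proj hn hex hF _).symm, comm_uGraph_iff, ← Subtype.coe_inj, Subgroup.coe_mul,
      Subgroup.coe_mul, coe_uInvP, hx]
    show pr n F g * (pr n F h * (pMap (frob hF) (pr n F h))⁻¹) =
      pr n F h * (pMap (frob hF) (pr n F h))⁻¹ * pInv (pr n F g)
    have hk' : pr n F (glMap (frob hF) h) = pr n F (glIota h * jGL n j B) := by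
      rw [hk, map_mul (pr n F) (GeneralLinearGroup.scalar (Fin n) k), (pr_eq_one_iff _).2 ⟨k, by
        ext a b; by_cases hab : a = b <;> simp [hab]⟩, one_mul]
    rw [pMap_pr, pInv_pr, hk', ← map_inv, ← map_mul, ← map_mul, ← map_mul, hι]
    congr 1
    rw [hg]
    have e : jGL n j M * (jGL n j B)⁻¹ = (jGL n j B)⁻¹ * glIota (jGL n j M) := by
      rw [eq_inv_mul_iff_mul_eq, ← mul_assoc, hBM, mul_inv_cancel_right]
    calc h * jGL n j M * h⁻¹ * (h * (glIota h * jGL n j B)⁻¹)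
        = h * (jGL n j M * (jGL n j B)⁻¹) * (glIota h)⁻¹ := by group
      _ = h * ((jGL n j B)⁻¹ * glIota (jGL n j M)) * (glIota h)⁻¹ := by rw [e]
      _ = _ := by group

include hn hex hj in
theorem rep_elem_mem {B : GL (Fin n) F₀} {h : GL (Fin n) F} {x : uP n hF} (hr : Rep hF j B h x)
    (M : GL (Fin n) F₀) (hM : B * M = glIota M * B) (hd : (M : Matrix (Fin n) (Fin n) F₀).det = 1) :
    ∃ g : Cfsg.GU n F q, (g : GL (Fin n) F) = h * jGL n j M * h⁻¹ ∧
      guInn n hF g ∈ Cfsg.Inn (Cfsg.PSU n F q) ⊓ Subgroup.centralizer {uGraph hn hex hF x} := by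
  obtain ⟨g, hg, hdet, hc⟩ := rep_elem hF hn hex hj hr M hM
  exact ⟨g, hg, Subgroup.mem_inf.2 ⟨guInn_mem_inn hF hn hex g (by rw [hdet, hd, map_one]),
    Subgroup.mem_centralizer_singleton_iff.2 hc⟩⟩

theorem glIota_mul_eq_iff (B M : GL (Fin n) F₀) : B * M = glIota M * B ↔
    (M : Matrix (Fin n) (Fin n) F₀)ᵀ * (B : Matrix (Fin n) (Fin n) F₀) * (M : Matrix (Fin n) (Fin n) F₀) =
      (B : Matrix (Fin n) (Fin n) F₀) := by
  have h1 : (M : Matrix (Fin n) (Fin n) F₀)ᵀ * ((M⁻¹ : GL (Fin n) F₀) : Matrix (Fin n) (Fin n) F₀)ᵀ = 1 := by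
    rw [← transpose_mul, Units.inv_mul, transpose_one]
  rw [Units.ext_iff, Units.val_mul, Units.val_mul, coe_glIota]
  constructor
  · intro h
    rw [mul_assoc, h, ← mul_assoc, h1, one_mul]
  · intro h
    have := congrArg (fun X => ((M⁻¹ : GL (Fin n) F₀) : Matrix (Fin n) (Fin n) F₀)ᵀ * X) h
    simp only [← mul_assoc] at this
    rwa [mul_eq_one_comm.1 h1, one_mul] at this

/-- The properties of a form over the fixed field that make the argument work. -/
def Rigid (j : F₀ →+* F) (B : GL (Fin n) F₀) : Prop :=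
  (∃ M : GL (Fin n) F₀, B * M = glIota M * B ∧ (M : Matrix (Fin n) (Fin n) F₀).det = 1 ∧
      (¬ ∃ c : F₀, (M : Matrix (Fin n) (Fin n) F₀) = c • 1) ∧
      ∃ c : F₀, (M : Matrix (Fin n) (Fin n) F₀) * (M : Matrix (Fin n) (Fin n) F₀) = c • 1) ∧
  ∀ (g : GL (Fin n) F) (τ : F ≃+* F) (k : ℕ), Odd k → semilin g τ ^ k = 1 →
    (∀ M : GL (Fin n) F₀, B * M = glIota M * B → (M : Matrix (Fin n) (Fin n) F₀).det = 1 →
      innDiag n F (jGL n j M) * semilin g τ = semilin g τ * innDiag n F (jGL n j M)) →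
    ∀ a, τ (j a) = j a

include hn in
theorem rigid_diag (h2 : (2 : F₀) ≠ 0) {B : GL (Fin n) F₀} {s : Fin n → F₀}
    (hB : (B : Matrix (Fin n) (Fin n) F₀) = Matrix.diagonal s) (hs : ∀ i, s i ≠ 0)
    (hij : ∃ i l m : Fin n, i ≠ l ∧ i ≠ m ∧ l ≠ m ∧ s i = s l) : Rigid j B := by
  classical
  refine ⟨?_, fun g τ k hk hpow hc a => ?_⟩
  · set i0 : Fin n := ⟨0, by omega⟩
    set i1 : Fin n := ⟨1, by omega⟩
    set i2 : Fin n := ⟨2, by omega⟩
    set ε : Fin n → F₀ := fun i => if i = i0 ∨ i = i1 then -1 else 1 with hε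
    have hε0 : ∀ i, ε i ≠ 0 := fun i => by simp only [hε]; split_ifs <;> simp
    have hεε : ∀ i, ε i * ε i = 1 := fun i => by simp only [hε]; split_ifs <;> simp
    let M : GL (Fin n) F₀ := GeneralLinearGroup.mkOfDetNeZero (Matrix.diagonal ε)
      (by rw [det_diagonal]; exact Finset.prod_ne_zero_iff.2 fun i _ => hε0 i)
    have hMv : (M : Matrix (Fin n) (Fin n) F₀) = Matrix.diagonal ε := rfl
    have h01 : i0 ≠ i1 := by simp [i0, i1, Fin.ext_iff]
    refine ⟨M, ?_, ?_, ?_, 1, ?_⟩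
    · rw [glIota_mul_eq_iff, hMv, hB, diagonal_transpose, diagonal_mul_diagonal, diagonal_mul_diagonal]
      congr 1
      funext i
      linear_combination (s i) * hεε i
    · rw [hMv, det_diagonal, show (∏ i, ε i) = ∏ i ∈ ({i0, i1} : Finset (Fin n)), ε i from
        (Finset.prod_subset (Finset.subset_univ _) fun i _ hi => by simp_all [hε]).symm,
        Finset.prod_pair h01]
      simp [hε]
    · rintro ⟨c, hc⟩
      have e0 := congrFun₂ hc i0 i0
      have e2 := congrFun₂ hc i2 i2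
      simp [hMv, hε, i0, i1, i2, Fin.ext_iff] at e0 e2
      exact h2 (by linear_combination e2 - e0)
    · rw [hMv, diagonal_mul_diagonal, one_smul, ← diagonal_one]
      exact congrArg _ (funext hεε)
  · obtain ⟨i, l, m, h1, h3, h4, h5⟩ := hij
    have H : BalancePSL.HermData (fun i => j (s i)) (RingEquiv.refl F) :=
      ⟨fun _ => rfl, fun i => (map_ne_zero j).2 (hs i), fun _ => rfl⟩
    refine BalancePSL.odd_cent_sub hn H (fun e => h2 (j.injective (by rwa [map_ofNat, map_zero]))) j.fieldRange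
      (fun i => ⟨s i, rfl⟩) (fun a ha => ha) ⟨i, l, m, h1, h3, h4, congrArg j h5⟩ hk hpow
      (fun h hh hd hS => ?_) (j a) ⟨a, rfl⟩ rfl
    choose m' hm' using fun p r => hS p r
    have hmap : (Matrix.of m').map j = (h : Matrix (Fin n) (Fin n) F) := Matrix.ext fun p r => hm' p r
    have hdet : (Matrix.of m').det = 1 := j.injective (by
      rw [RingHom.map_det, RingHom.mapMatrix_apply, hmap, hd, map_one])
    let M : GL (Fin n) F₀ := GeneralLinearGroup.mkOfDetNeZero (Matrix.of m') (by rw [hdet]; exact one_ne_zero)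
    have hjM : jGL n j M = h := Units.ext hmap
    rw [← hjM]
    refine hc M ?_ hdet
    rw [glIota_mul_eq_iff]
    refine Matrix.map_injective j.injective ?_
    show ((Matrix.of m')ᵀ * (B : Matrix (Fin n) (Fin n) F₀) * Matrix.of m').map j =
      (B : Matrix (Fin n) (Fin n) F₀).map j
    have e := BalancePSL.isIsom_matrix hh
    rw [RingEquiv.coe_refl, Matrix.map_id] at e
    rw [Matrix.map_mul, Matrix.map_mul, Matrix.transpose_map, hmap, hB, diagonal_map (map_zero j)]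
    exact e

include hn in
theorem rigid_alt {m : ℕ} (hm : 2 ≤ m) (e : PSpSemi.Idx m ≃ Fin n) (h2 : (2 : F₀) ≠ 0) {B : GL (Fin n) F₀}
    (hB : (B : Matrix (Fin n) (Fin n) F₀) = (Matrix.J (Fin m) F₀).submatrix e.symm e.symm) : Rigid j B := by
  classical
  have hform : ∀ X : Matrix (PSpSemi.Idx m) (PSpSemi.Idx m) F₀, Xᵀ * Matrix.J (Fin m) F₀ * X = Matrix.J (Fin m) F₀ →
      (X.submatrix e.symm e.symm)ᵀ * (B : Matrix (Fin n) (Fin n) F₀) * X.submatrix e.symm e.symm =
        (B : Matrix (Fin n) (Fin n) F₀) := fun X hX => by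
    rw [hB, transpose_submatrix, submatrix_mul_equiv, submatrix_mul_equiv, hX]
  refine ⟨?_, fun g τ k hk hpow hc a => ?_⟩
  · set a0 : Fin m := ⟨0, by omega⟩
    set a1 : Fin m := ⟨1, by omega⟩
    set ε : PSpSemi.Idx m → F₀ := Sum.elim (fun i => if i = a0 then -1 else 1) (fun i => if i = a0 then -1 else 1)
      with hε
    have hεε : ∀ i, ε i * ε i = 1 := by rintro (i | i) <;> by_cases hia : i = a0 <;> simp [hε, hia]
    set X := Matrix.diagonal ε
    have hdet : X.det = 1 := by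
      rw [det_diagonal, Fintype.prod_sum_type]
      simp [hε]
    have hX : Xᵀ * Matrix.J (Fin m) F₀ * X = Matrix.J (Fin m) F₀ := by
      rw [diagonal_transpose]
      ext (p | p) (r | r) <;> by_cases hpr : p = r <;> by_cases hra : r = a0 <;>
        by_cases hpa : p = a0 <;> simp_all [X, Matrix.J, Matrix.one_apply]
    let M : GL (Fin n) F₀ := GeneralLinearGroup.mkOfDetNeZero (X.submatrix e.symm e.symm)
      (by rw [det_submatrix_equiv_self, hdet]; exact one_ne_zero)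
    have hMv : (M : Matrix (Fin n) (Fin n) F₀) = X.submatrix e.symm e.symm := rfl
    refine ⟨M, (glIota_mul_eq_iff B M).2 (hform X hX), by rw [hMv, det_submatrix_equiv_self, hdet], ?_, 1, ?_⟩
    · rintro ⟨c, hc⟩
      have e0 := congrFun₂ hc (e (Sum.inl a0)) (e (Sum.inl a0))
      have e1 := congrFun₂ hc (e (Sum.inl a1)) (e (Sum.inl a1))
      simp [hMv, X, hε, a0, a1] at e0 e1
      exact h2 (by linear_combination e1 - e0)
    · rw [hMv, submatrix_mul_equiv, diagonal_mul_diagonal, funext hεε, diagonal_one, submatrix_one_equiv, one_smul]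
  · have hn2 : 2 ≤ n := by omega
    refine (BalancePSL.scalar_of_lines hn2 g τ (j.fieldRange : Set F) (zero_mem _) (one_mem _)
      fun i l hil b hb => ?_).2 (j a) ⟨a, rfl⟩
    obtain ⟨b0, rfl⟩ := hb
    set w : Fin n → F₀ := bv i + b0 • bv l with hw
    set v : PSpSemi.Idx m → F₀ := w ∘ e with hv
    set φ : Fin n → F₀ := (Matrix.J (Fin m) F₀ *ᵥ v) ∘ e.symm with hφ
    have hve : v ∘ e.symm = w := by funext r; simp [hv]
    have hd : φ ⬝ᵥ w = 0 := by
      have h0 := PSpSemi.form_self v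
      rw [Classical.Symp.sympBil_apply, Cfsg.sympForm] at h0
      rw [hφ, ← hve, comp_equiv_dotProduct_comp_equiv, dotProduct_comm, h0]
    have hw0 : w ≠ 0 := fun h0 => by
      have := congrFun h0 i
      simp [hw, AutPSL.bv, hil] at this
    have hφ0 : φ ≠ 0 := fun h0 => by
      refine hw0 ?_
      have h1 : Matrix.J (Fin m) F₀ *ᵥ v = 0 := funext fun r => by simpa [hφ] using congrFun h0 (e r)
      have h3 := congrArg (Matrix.J (Fin m) F₀).mulVec h1
      rw [mulVec_mulVec, Matrix.J_squared, neg_mulVec, one_mulVec, mulVec_zero, neg_eq_zero] at h3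
      rw [← hve, h3]; rfl
    have hd' : (j ∘ φ) ⬝ᵥ (j ∘ w) = 0 := by
      rw [← map_zero j, ← hd]
      simp [dotProduct, map_sum]
    have hne : ∀ u : Fin n → F₀, u ≠ 0 → j ∘ u ≠ 0 := fun u hu h0 =>
      hu (funext fun r => j.injective ((congrFun h0 r).trans (map_zero j).symm))
    have hjw : j ∘ w = bv i + j b0 • bv l := by
      funext r
      simp [hw, AutPSL.bv, Pi.single_apply, apply_ite j]
    rw [← hjw]
    refine BalancePSL.par_of_semilin_fix hn2 g τ (hne w hw0) (hne φ hφ0) hd'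
      ((Balance.fix_iff_commute (BalancePSL.center_psl_bot hn2) _ _).2 ?_)
    let M : GL (Fin n) F₀ := Matrix.SpecialLinearGroup.toGL (AutPSL.tvSL w φ hd)
    have hval : (M : Matrix (Fin n) (Fin n) F₀) =
        (PSpSemi.tS v 1 : Matrix (PSpSemi.Idx m) (PSpSemi.Idx m) F₀).submatrix e.symm e.symm := by
      show 1 + vecMulVec w φ = (1 + (1 : F₀) • vecMulVec v (Matrix.J (Fin m) F₀ *ᵥ v)).submatrix e.symm e.symm
      rw [← hve, hφ]
      ext p r
      simp [vecMulVec_apply, Matrix.one_apply]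
    have hM : B * M = glIota M * B := by
      rw [glIota_mul_eq_iff, hval]
      exact hform _ (SymplecticGroup.mem_iff'.1 (PSpSemi.tS v 1).2)
    have h1 := hc M hM (AutPSL.tvSL w φ hd).2
    have e1 : innDiag n F (jGL n j M) = MulAut.conj (AutPSL.P (j ∘ w) (j ∘ φ)) := by
      rw [AutPSL.P_of hd', AutPSL.conj_eq_semilin, AutPSL.innDiag_apply]
      congr 1
      refine Units.ext ?_
      show (1 + vecMulVec w φ).map j = 1 + vecMulVec (j ∘ w) (j ∘ φ)
      ext p r
      by_cases hpr : p = r <;> simp [vecMulVec_apply, hpr]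
    rwa [e1] at h1

include hn hex hj in
theorem core_bot_of_rigid {B : GL (Fin n) F₀} {h : GL (Fin n) F} {x : uP n hF} (hr : Rep hF j B h x)
    (hB : Rigid j B) (hD : Cfsg.pPrimeCore 2 ↥(Cfsg.inndiagPSU n F q ⊓ Subgroup.centralizer {uGraph hn hex hF x}) = ⊥)
    (𝒢 : Subgroup (MulAut (Cfsg.PSU n F q))) (hA : Cfsg.Inn (Cfsg.PSU n F q) ≤ 𝒢) :
    Cfsg.pPrimeCore 2 ↥(𝒢 ⊓ Subgroup.centralizer {uGraph hn hex hF x}) = ⊥ ∧
      2 ∣ Nat.card ↥(Cfsg.Inn (Cfsg.PSU n F q) ⊓ Subgroup.centralizer {uGraph hn hex hF x}) := by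
  haveI : Finite (MulAut (Cfsg.PSU n F q)) :=
    Finite.of_injective (fun a => (a : Cfsg.PSU n F q → Cfsg.PSU n F q)) DFunLike.coe_injective
  have hn2 : 2 ≤ n := by omega
  set γ := uGraph hn hex hF x
  obtain ⟨⟨M0, hM0, hM0d, hM0s, c0, hM0q⟩, hrig⟩ := hB
  constructor
  · rw [← core_map_bot_iff]
    set Z := 𝒢 ⊓ Subgroup.centralizer {γ}
    rw [eq_bot_iff]
    intro y hy
    rw [Subgroup.mem_bot]
    obtain ⟨k, hk, hk1⟩ := odd_pow_eq_one (core_map_card Z) hy
    obtain ⟨u, θ, -, rfl⟩ := exists_semi hF hn hex y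
    haveI hnor := FieldCent.inndiag_normal hF hn hex
    set g := ((u : GL (Fin n) F))
    set g' := h⁻¹ * g * glMap θ h with hg'
    have hT : semilin g' θ = (innDiag n F h)⁻¹ * semilin g θ * innDiag n F h := by
      rw [← map_inv, AutPSL.innDiag_apply, AutPSL.innDiag_apply, AutPSL.semilin_mul, AutPSL.semilin_mul]
      congr 1
    obtain ⟨N, hN, hNp⟩ := FieldCoset.uSemi_pow hF u θ k
    rw [hk1, eq_comm, uSemi_eq_one_iff hF hn hex] at hNp
    obtain ⟨N', hN', hN'p⟩ := AutPSL.semilin_pow g θ k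
    have hpow : semilin g θ ^ k = 1 := by
      rw [hN'p, AutPSL.semilin_eq_one_iff hn2]
      obtain ⟨c, hc⟩ := (pr_eq_one_iff _).1 hNp.2
      exact ⟨hNp.1, c, by rw [hN', ← hN, hc]⟩
    have hpow' : semilin g' θ ^ k = 1 := by
      rw [hT]
      have := (MulAut.conj (innDiag n F h)⁻¹).toMonoidHom.map_pow (semilin g θ) k
      simp only [MulEquiv.coe_toMonoidHom, MulAut.conj_apply, inv_inv, hpow, mul_one, inv_mul_cancel] at this
      exact this.symm
    have hfix := hrig g' θ k hk hpow' fun M hM hMd => by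
      obtain ⟨m, hm, hmC⟩ := rep_elem_mem hF hn hex hj hr M hM hMd
      set c := guInn n hF m
      set y := uSemi hF u θ
      have hcZ : c ∈ Z := Subgroup.mem_inf.2 ⟨hA (Subgroup.mem_inf.1 hmC).1, (Subgroup.mem_inf.1 hmC).2⟩
      have hci : c ∈ Cfsg.inndiagPSU n F q := inn_le_inndiagPSU hF hn hex (Subgroup.mem_inf.1 hmC).1
      have h6 : c * y * c⁻¹ * y⁻¹ = 1 := by
        refine core_meet_bot hF hn hex hD 𝒢 hA (mul_mem (core_map_conj_mem Z hcZ hy) (inv_mem hy)) ?_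
        have := mul_mem hci (hnor.conj_mem _ (inv_mem hci) y)
        rwa [show c * (y * c⁻¹ * y⁻¹) = c * y * c⁻¹ * y⁻¹ by group] at this
      have h7 : c * y = y * c := by
        calc c * y = c * y * c⁻¹ * y⁻¹ * (y * c) := by group
          _ = y * c := by rw [h6, one_mul]
      change uSemi hF (Subgroup.inclusion (GU_le_uGL hF) m) (RingEquiv.refl F) * uSemi hF u θ =
        uSemi hF u θ * uSemi hF (Subgroup.inclusion (GU_le_uGL hF) m) (RingEquiv.refl F) at h7
      rw [uSemi_mul, uSemi_mul, uSemi_eq_iff hF hn hex] at h7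
      obtain ⟨c', hc'⟩ := (pr_eq_iff _ _).1 h7.2
      have h8 : innDiag n F (m : GL (Fin n) F) * semilin g θ = semilin g θ * innDiag n F (m : GL (Fin n) F) := by
        rw [AutPSL.innDiag_apply, AutPSL.semilin_mul, AutPSL.semilin_mul, ← AutPSL.mkAut_false,
          ← AutPSL.mkAut_false, AutPSL.mkAut_eq_iff hn2 fun h => absurd h (by omega)]
        exact ⟨RingEquiv.ext fun _ => rfl, rfl, c', hc'⟩
      rw [hm, map_mul, map_mul, map_inv] at h8
      rw [hT]
      calc innDiag n F (jGL n j M) * ((innDiag n F h)⁻¹ * semilin g θ * innDiag n F h)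
          = (innDiag n F h)⁻¹ * (innDiag n F h * innDiag n F (jGL n j M) * (innDiag n F h)⁻¹ * semilin g θ) *
              innDiag n F h := by group
        _ = (innDiag n F h)⁻¹ * (semilin g θ * (innDiag n F h * innDiag n F (jGL n j M) * (innDiag n F h)⁻¹)) *
              innDiag n F h := by rw [h8]
        _ = _ := by group
    have hθ : θ = RingEquiv.refl F := by
      obtain ⟨p, f, hp, -, hq⟩ := Herm.exists_prime_pow_root hF
      haveI : Fact p.Prime := ⟨hp⟩
      haveI : Fact (Nat.Prime 2) := ⟨Nat.prime_two⟩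
      have hf : 1 ≤ f := by
        rcases Nat.eq_zero_or_pos f with rfl | hh
        · have := CfsgLib.Classical.two_le_of_card_sq hF; simp at hq; omega
        · exact hh
      obtain ⟨i, hi⟩ := PSpSemi.mem_zpowers_of_fix (frob hF) (p := 2) (f := 2 * f) (r := p)
        (by rw [hF, hq, ← pow_mul, mul_comm]) (by omega) (orderOf_frob hF) θ fun a => by
          obtain ⟨b, hb⟩ := (hj (a : F)).1 a.2
          rw [← hb]
          exact hfix b
      have h1 : θ ^ k = 1 := hNp.1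
      have h3 : θ ^ 2 = 1 := by
        rw [← hi, ← zpow_natCast (frob hF ^ i), ← _root_.zpow_mul, mul_comm, _root_.zpow_mul, zpow_natCast,
          show frob hF ^ 2 = 1 by rw [← orderOf_frob hF, pow_orderOf_eq_one], _root_.one_zpow]
      obtain ⟨t, rfl⟩ := hk
      rwa [pow_succ, pow_mul, h3, one_pow, one_mul] at h1
    subst hθ
    refine core_meet_bot hF hn hex hD 𝒢 hA hy ?_
    rw [inndiagPSU_eq hF hn hex]
    exact ⟨u, rfl⟩
  · obtain ⟨g, hg, hgC⟩ := rep_elem_mem hF hn hex hj hr M0 hM0 hM0d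
    haveI : Nonempty (Fin n) := ⟨⟨0, by omega⟩⟩
    have hne : guInn n hF g ≠ 1 := by
      intro h1
      obtain ⟨c, hc⟩ := (FieldCent.guInn_eq_one_iff hF hn hex g).1 h1
      rw [hg] at hc
      have h2 : (jGL n j M0 : Matrix (Fin n) (Fin n) F) = (c : F) • 1 := by
        have := congrArg (fun X => ((h⁻¹ : GL (Fin n) F) : Matrix (Fin n) (Fin n) F) * X *
          (h : Matrix (Fin n) (Fin n) F)) hc
        simpa [mul_assoc, Units.inv_mul] using this
      refine hM0s ⟨(M0 : Matrix (Fin n) (Fin n) F₀) ⟨0, by omega⟩ ⟨0, by omega⟩, ?_⟩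
      have e0 := congrFun₂ h2 ⟨0, by omega⟩ ⟨0, by omega⟩
      rw [coe_jGL] at h2 e0
      ext a b
      apply j.injective
      have e1 := congrFun₂ h2 a b
      by_cases hab : a = b <;> simp [hab] at e0 e1 ⊢ <;> simp [e0, e1]
    have hsq : guInn n hF g * guInn n hF g = 1 := by
      rw [← map_mul, FieldCent.guInn_eq_one_iff hF hn hex, Subgroup.coe_mul, hg]
      have hc0 : c0 ≠ 0 := by
        rintro rfl
        rw [zero_smul] at hM0q
        exact (M0 * M0).ne_zero hM0q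
      refine ⟨Units.mk0 (j c0) ((map_ne_zero j).2 hc0), ?_⟩
      rw [show h * jGL n j M0 * h⁻¹ * (h * jGL n j M0 * h⁻¹) = h * jGL n j (M0 * M0) * h⁻¹ by
        rw [map_mul]; group, Units.val_mul, Units.val_mul, coe_jGL, Units.val_mul, hM0q,
        show ((c0 • (1 : Matrix (Fin n) (Fin n) F₀)).map j) = j c0 • (1 : Matrix (Fin n) (Fin n) F) by
          ext a b; by_cases hab : a = b <;> simp [hab],
        Matrix.mul_smul, mul_one, Matrix.smul_mul, Units.mul_inv, Units.val_mk0]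
    have ho : orderOf (guInn n hF g) = 2 := orderOf_eq_prime (by rw [sq, hsq]) hne
    rw [← ho, ← Subgroup.orderOf_mk (guInn n hF g) hgC]
    exact orderOf_dvd_natCard _

include hn hex hj in
theorem graph_core_bot (h2 : (2 : F₀) ≠ 0) {γ : MulAut (Cfsg.PSU n F q)}
    (hγ : Cfsg.IsGraphAutClassPSU γ) (hγ2 : orderOf γ = 2)
    (𝒢 : Subgroup (MulAut (Cfsg.PSU n F q))) (hA : Cfsg.Inn (Cfsg.PSU n F q) ≤ 𝒢) :
    Cfsg.pPrimeCore 2 ↥(𝒢 ⊓ Subgroup.centralizer {γ}) = ⊥ ∧
      2 ∣ Nat.card ↥(Cfsg.Inn (Cfsg.PSU n F q) ⊓ Subgroup.centralizer {γ}) := by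
  classical
  obtain ⟨A, hM⟩ := exists_model_of_class hn hex hF hj hγ hγ2
  have hD := core_inndiagU_bot hF hn hex hj h2 hM
  obtain ⟨h', x, hc, hgood, hx, rfl⟩ := hM
  obtain ⟨h, rfl⟩ := pr_surjective h'
  have hrep : Rep hF j A h x := by
    refine ⟨?_, hx.symm⟩
    have hk := hc.2
    rw [pMap_pr, pInv_pr, jP_pr, ← map_mul, eq_comm, pr_eq_iff] at hk
    obtain ⟨k, hk⟩ := hk
    exact ⟨k, Units.ext (by rw [hk, Units.val_mul (GeneralLinearGroup.scalar (Fin n) k)]; ext a b; simp)⟩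
  have hcongr : ∀ (B k0 : GL (Fin n) F₀), (A : Matrix (Fin n) (Fin n) F₀) =
      (k0 : Matrix (Fin n) (Fin n) F₀) * (B : Matrix (Fin n) (Fin n) F₀) * (k0 : Matrix (Fin n) (Fin n) F₀)ᵀ →
      A = k0 * B * (glIota k0)⁻¹ := fun B k0 e => Units.ext (by rw [e, Units.val_mul, Units.val_mul]; rfl)
  rcases (good_iff hn A).1 hgood with hs | hs
  · set last : Fin n := ⟨n - 1, by omega⟩ with hlast
    set δ := (A : Matrix (Fin n) (Fin n) F₀).det with hδ
    have hδ0 : δ ≠ 0 := (GeneralLinearGroup.det A).ne_zero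
    set s : Fin n → F₀ := fun i => if i = last then δ else 1 with hsdef
    have hs0 : ∀ i, s i ≠ 0 := fun i => by simp only [hsdef]; split_ifs <;> simp [hδ0]
    let B : GL (Fin n) F₀ := GeneralLinearGroup.mkOfDetNeZero (Matrix.diagonal s)
      (by rw [det_diagonal]; exact Finset.prod_ne_zero_iff.2 fun i _ => hs0 i)
    have hBdet : (B : Matrix (Fin n) (Fin n) F₀).det = δ := by
      show (Matrix.diagonal s).det = δ
      rw [det_diagonal, hsdef, Finset.prod_ite_eq' Finset.univ last (fun _ => δ)]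
      simp
    obtain ⟨k0, hk0⟩ := AutPSL.Graph.congr_symm_of_det h2 (by omega) A B hs
      (Matrix.diagonal_transpose s) ⟨δ, by rw [hBdet]⟩
    refine core_bot_of_rigid hF hn hex hj (rep_congr hF hj hrep (hcongr B k0 hk0))
      (rigid_diag hn h2 rfl hs0 ⟨⟨0, by omega⟩, ⟨1, by omega⟩, last, by simp,
        by simp [hlast, Fin.ext_iff]; omega, by simp [hlast, Fin.ext_iff]; omega, ?_⟩) hD 𝒢 hA
    simp only [hsdef, hlast, Fin.ext_iff]
    rw [if_neg (by omega), if_neg (by omega)]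
  · have halt := AutPSL.Graph.isAlt_of_skew h2 hs
    obtain ⟨m, hm⟩ := AutPSL.Graph.even_of_isAlt A halt
    let e : Fin m ⊕ Fin m ≃ Fin n := finSumFinEquiv.trans (finCongr hm.symm)
    obtain ⟨B, hB⟩ := AutPSL.Graph.exists_reindexed (F := F₀) e (A := Matrix.J (Fin m) F₀)
      (Matrix.isUnit_det_J (Fin m) F₀).ne_zero
    obtain ⟨k0, hk0⟩ := AutPSL.Graph.congr_alt A B halt
      (by rw [hB]; exact AutPSL.Graph.isAltMat_submatrix e.symm (AutPSL.Graph.isAltMat_J m))
    exact core_bot_of_rigid hF hn hex hj (rep_congr hF hj hrep (hcongr B k0 hk0))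
      (rigid_alt hn (by omega) e h2 hB) hD 𝒢 hA

end CfsgLib.Known.BalancePSU
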