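import Cfsg.Agent.Lib.Known.BalancePSU.Field

/-!
# Local balance for non inner-diagonal automorphisms of `PSU` (owner: helper8)
-/

set_option autoImplicit false
set_option linter.unusedSectionVars false

open Matrix

namespace CfsgLib.Known.BalancePSU

open CfsgLib.Classical
open CfsgLib.Known.AutPSU
open CfsgLib.Known.AutPSU.FieldCent (fieldU)
open CfsgLib.Known.PSpSemi (fixF mem_fixF)

variable {n : ℕ} {F : Type*} [Field F] [Fintype F] {q : ℕ}

theorem hex_of_simple (hF : Fintype.card F = q ^ 2) (hK : IsSimpleGroup (Cfsg.PSU n F q)) : n = 3 → q ≠ 2 := by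
  rintro rfl rfl
  obtain ⟨hcard, N, hN, hN9, -⟩ := Herm.psu_three_two (F := F) hF
  rcases hN.eq_bot_or_eq_top with h | h
  · rw [h, Subgroup.card_bot] at hN9
    omega
  · rw [h, Subgroup.card_top, hcard] at hN9
    omega

theorem balance_criterion (hF : Fintype.card F = q ^ 2) (hn : 3 ≤ n) (hK : IsSimpleGroup (Cfsg.PSU n F q))
    {p r : ℕ} [hp : Fact p.Prime] [hr : Fact r.Prime] [CharP F r] (hpr : p ≠ r)
    (𝒢 : Subgroup (MulAut (Cfsg.PSU n F q))) (hinn : ∀ k : Cfsg.PSU n F q, MulAut.conj k ∈ 𝒢)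
    (β : MulAut (Cfsg.PSU n F q)) (hord : orderOf β = p) (hnot : ¬ Cfsg.IsInnerDiagonalAutPSU β) :
    Cfsg.pPrimeCore p ↥(𝒢 ⊓ Subgroup.centralizer {β}) ≠ ⊥ ↔
      ((∃ γ φ : MulAut (Cfsg.PSU n F q), Cfsg.IsInnerDiagonalAutPSU γ ∧
          (∃ σ : F ≃+* F, Cfsg.IsFieldAutPSUOf σ φ) ∧ β = φ.trans γ) ∧
        Nat.Coprime p (Nat.card ↥(MonoidHom.eqLocus β.toMonoidHom (MonoidHom.id (Cfsg.PSU n F q))))) := by
  classical
  have hex := hex_of_simple hF hK
  have hc := center_psu_bot hF hn hex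
  obtain ⟨r', f, hr', hchar, hq⟩ := Herm.exists_prime_pow_root hF
  obtain rfl : r = r' := CharP.eq F ‹_› hchar
  have hf : 1 ≤ f := by
    rcases Nat.eq_zero_or_pos f with rfl | h
    · have := CfsgLib.Classical.two_le_of_card_sq hF; simp at hq; omega
    · exact h
  have hcard : Fintype.card F = r ^ (2 * f) := by rw [hF, hq, ← pow_mul, mul_comm]
  obtain ⟨g, θ, hg, rfl⟩ := exists_semi hF hn hex β
  set γ := uInn n hF g
  have hγ : Cfsg.IsInnerDiagonalAutPSU γ := (isInnerDiagonalAutPSU_iff hF γ).2 ⟨g, hg, rfl⟩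
  have hγφ : uSemi hF g θ = γ * fieldU n hF θ := by
    show _ = uSemi hF g (RingEquiv.refl F) * uSemi hF 1 θ
    rw [uSemi_mul, map_one, mul_one]
    rfl
  have hfield : ∃ γ' φ : MulAut (Cfsg.PSU n F q), Cfsg.IsInnerDiagonalAutPSU γ' ∧
      (∃ σ : F ≃+* F, Cfsg.IsFieldAutPSUOf σ φ) ∧ uSemi hF g θ = φ.trans γ' :=
    ⟨γ, fieldU n hF θ, hγ, ⟨θ, (isFieldAutPSUOf_iff hF θ _).2 rfl⟩, hγφ⟩
  rw [and_iff_right hfield]
  have hθ1 : θ ≠ 1 := fun h => hnot ((isInnerDiagonalAutPSU_iff hF _).2 ⟨g, hg, by rw [h]; rfl⟩)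
  have hθp : orderOf θ = p := by
    refine orderOf_eq_prime ?_ hθ1
    obtain ⟨N, -, hN⟩ := FieldCoset.uSemi_pow hF g θ p
    rw [← hord, pow_orderOf_eq_one, eq_comm, hord, uSemi_eq_one_iff hF hn hex] at hN
    exact hN.1
  rcases hp.out.eq_two_or_odd' with hp2 | hodd
  · subst hp2
    have hθf : θ = frob hF := eq_frob_of_orderOf hF hθp
    obtain ⟨-, hF₀⟩ := AutPSL.exists_fixed_field hcard (by omega) (frob hF) (orderOf_frob hF)
    haveI : Fintype (fixF (frob hF)) := Fintype.ofFinite _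
    have hj := fun a => mem_fixF (frob hF) a
    have h2 : (2 : fixF (frob hF)) ≠ 0 := fun h0 => hpr (by
      have h1 := congrArg (fixF (frob hF)).subtype h0
      rw [map_ofNat, map_zero] at h1
      exact ((Nat.prime_dvd_prime_iff_eq hr.out Nat.prime_two).1
        ((CharP.cast_eq_zero_iff F r 2).1 (by simpa using h1))).symm)
    have hclass : Cfsg.IsGraphAutClassPSU (uSemi hF g θ) :=
      ⟨hn, γ, fieldU n hF θ, θ, by rw [hθp]; exact even_two, hγ, (isFieldAutPSUOf_iff hF θ _).2 rfl, hγφ⟩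
    obtain ⟨hbot, heven⟩ := graph_core_bot hF hn hex hj h2 hclass hord 𝒢
      (by rintro _ ⟨k, rfl⟩; exact hinn k)
    rw [← Balance.card_fixed_eq hc] at heven
    exact iff_of_false (fun h => h hbot) fun h =>
      absurd (Nat.Coprime.eq_one_of_dvd h heven) (by norm_num)
  have hp2 : p ≠ 2 := fun h => absurd (h ▸ hodd) (by decide)
  have hθodd : Odd (orderOf θ) := by rw [hθp]; exact hodd
  have hclass : Cfsg.IsFieldAutClassPSU (fieldU n hF θ) :=
    ⟨1, fieldU n hF θ, θ, hθ1, hθodd, (isFieldAutPSUOf_iff hF θ _).2 rfl, by group⟩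
  have hxr : orderOf (fieldU n hF θ) = p :=
    (orderOf_injective _ (FieldCent.fieldU_injective hF hn hex) θ).trans hθp
  obtain ⟨k, -, hk⟩ := (FieldCoset.orderOf_coset_iff hF hq hf hn hex hclass hp.out hxr (δ := γ)
    (by rw [inndiagPSU_eq hF hn hex]; exact ⟨g, rfl⟩)).1 (by rw [← hγφ]; exact hord)
  rw [← hγφ] at hk
  obtain ⟨hdvd2, hF₀⟩ := AutPSL.exists_fixed_field hcard (by omega) θ hθp
  have hdvd : p ∣ f := (Nat.Coprime.dvd_mul_left (Nat.coprime_two_right.2 hodd)).1 hdvd2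
  haveI : Fintype (fixF θ) := Fintype.ofFinite _
  set q₀ := r ^ (f / p) with hq₀
  have hK' : Fintype.card (fixF θ) = q₀ ^ 2 := by
    rw [← Nat.card_eq_fintype_card, hF₀, Nat.mul_div_assoc 2 hdvd, hq₀, ← pow_mul, mul_comm]
  have hqq : q = q₀ ^ p := by rw [hq, hq₀, ← pow_mul, Nat.div_mul_cancel hdvd]
  have hjf : ∀ x : fixF θ, frob hF ((fixF θ).subtype x) = (fixF θ).subtype (frob hK' x) := by
    intro x
    rw [frob_apply, frob_apply, map_pow, hqq]
    obtain ⟨l, hl⟩ := hodd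
    have h2 : ∀ m : ℕ, x ^ ((q₀ ^ 2) ^ m) = x := by
      intro m
      induction m with
      | zero => rw [pow_zero, pow_one]
      | succ m ih => rw [pow_succ, pow_mul, ih, ← hK', FiniteField.pow_card]
    rw [hl, pow_succ, pow_mul q₀ 2 l, pow_mul, ← map_pow, ← map_pow, h2, map_pow]
  exact Balance.criterion_of_conj hc hk.symm hord
    (field_data hF hn hex hK' (fixF θ).subtype (mem_fixF θ) hjf hp2 hcard (by omega) hθp) 𝒢 hinn

end CfsgLib.Known.BalancePSU
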