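import Cfsg.Agent.Lib.Known.BalancePSU.Graph
import Cfsg.Agent.Lib.Classical.Unitary.ThreeTwo

/-!
# `PSU₃(2)`: normal subgroups and semilinear intertwiners (owner: helper8)
-/

set_option autoImplicit false
set_option linter.unusedSectionVars false

open Matrix

namespace CfsgLib.Known.BalancePSU

open CfsgLib.Classical CfsgLib.Classical.Herm CfsgLib.Classical.Herm.ThreeTwo

variable {K : Type*} [Field K] [Fintype K]

/-- No nontrivial normal subgroup of `PSU₃(2)` has order prime to three. -/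
theorem psu_small_core (hK : Fintype.card K = 4) (M : Subgroup (Cfsg.PSU 3 K 2)) [M.Normal]
    (hM : ¬ 3 ∣ Nat.card M) : M = ⊥ := by
  obtain ⟨w, hw⟩ := exists_omega hK
  obtain ⟨hcard, N, hN, hN9, hN3, ⟨e⟩⟩ := Herm.psu_three_two hK
  set G := Cfsg.PSU 3 K 2
  haveI : Finite G := Nat.finite_of_card_ne_zero (by rw [hcard]; norm_num)
  have hM8 : Nat.card M ∣ 8 :=
    ((Nat.prime_three.coprime_iff_not_dvd.2 hM).symm.pow_right 2).dvd_of_dvd_mul_right (by
        have := Subgroup.card_subgroup_dvd_card M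
        rwa [hcard, show (72 : ℕ) = 8 * 3 ^ 2 by norm_num] at this)
  have hmeet : ∀ x : G, x ∈ M → x ∈ N → x = 1 := by
    intro x hxM hxN
    have h8 : x ^ 8 = 1 := orderOf_dvd_iff_pow_eq_one.1
      ((Subgroup.orderOf_mk x hxM).symm.dvd.trans ((orderOf_dvd_natCard _).trans hM8))
    have h3 := hN3 x hxN
    calc x = x ^ 9 * (x ^ 8)⁻¹ := by group
      _ = 1 := by rw [h8, show x ^ 9 = (x ^ 3) ^ 3 by rw [← pow_mul], h3, one_pow, inv_one, one_mul]
  have hthree : ∀ d : Cfsg.SU 3 K 2, d ^ 3 = 1 → cls d ∈ N := by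
    intro d hd
    haveI := hN
    rw [← QuotientGroup.eq_one_iff, ← orderOf_eq_one_iff]
    have h3 : orderOf ((cls d : G) : G ⧸ N) ∣ 3 := orderOf_dvd_of_pow_eq_one (by
      rw [← QuotientGroup.mk_pow, show (cls d : G) ^ 3 = 1 from (QuotientGroup.mk_pow _ d 3).symm.trans (by rw [hd]; rfl),
        QuotientGroup.mk_one])
    have h8 : orderOf ((cls d : G) : G ⧸ N) ∣ 8 := by
      have := orderOf_dvd_natCard ((cls d : G) : G ⧸ N)
      rwa [Nat.card_congr e.toEquiv, Nat.card_eq_fintype_card, QuaternionGroup.card] at this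
    exact Nat.eq_one_of_dvd_coprimes (by norm_num : Nat.Coprime 3 8) h3 h8
  rw [eq_bot_iff]
  intro m hm
  obtain ⟨g, rfl⟩ := QuotientGroup.mk_surjective m
  have hg8 : g ^ 8 ∈ Subgroup.center (Cfsg.SU 3 K 2) := by
    rw [← QuotientGroup.eq_one_iff, QuotientGroup.mk_pow]
    exact orderOf_dvd_iff_pow_eq_one.1
      ((Subgroup.orderOf_mk _ hm).symm.dvd.trans ((orderOf_dvd_natCard _).trans hM8))
  have hcomm : ∀ d : Cfsg.SU 3 K 2, d ^ 3 = 1 → g * d = d * g := by
    intro d hd
    set z := g * d * g⁻¹ * d⁻¹ with hz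
    have hzc : z ∈ Subgroup.center (Cfsg.SU 3 K 2) := by
      rw [← QuotientGroup.eq_one_iff]
      refine hmeet _ ?_ ?_
      · rw [show z = g * (d * g⁻¹ * d⁻¹) by rw [hz]; group, QuotientGroup.mk_mul]
        refine mul_mem hm ?_
        rw [QuotientGroup.mk_mul, QuotientGroup.mk_mul, QuotientGroup.mk_inv, QuotientGroup.mk_inv]
        exact ‹M.Normal›.conj_mem _ (inv_mem hm) _
      · rw [show z = g * d * g⁻¹ * d⁻¹ from hz, QuotientGroup.mk_mul, QuotientGroup.mk_mul,
          QuotientGroup.mk_mul, QuotientGroup.mk_inv, QuotientGroup.mk_inv]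
        exact mul_mem (hN.conj_mem _ (hthree d hd) _) (inv_mem (hthree d hd))
    have hc : ∀ x, x * z = z * x := Subgroup.mem_center_iff.1 hzc
    have h1 : g * d * g⁻¹ = z * d := by rw [hz]; group
    have hit : ∀ k : ℕ, g ^ k * d * (g ^ k)⁻¹ = z ^ k * d := by
      intro k
      induction k with
      | zero => simp
      | succ k ih =>
        calc g ^ (k + 1) * d * (g ^ (k + 1))⁻¹ = g * (g ^ k * d * (g ^ k)⁻¹) * g⁻¹ := by
              rw [pow_succ']; group
          _ = z ^ k * (g * d * g⁻¹) := by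
              rw [ih, ← mul_assoc g, (Commute.pow_right (hc g) k).eq]; group
          _ = _ := by rw [h1, ← mul_assoc, ← pow_succ]
    have hz8 : z ^ 8 = 1 := by
      have h2 := hit 8
      rw [show g ^ 8 * d = d * g ^ 8 from (Subgroup.mem_center_iff.1 hg8 d).symm, mul_inv_cancel_right] at h2
      exact mul_right_cancel (h2.symm.trans (one_mul d).symm)
    have hz3 : z ^ 3 = 1 := by
      have h2 : (g * d * g⁻¹) ^ 3 = 1 := by rw [conj_pow, hd, mul_one, mul_inv_cancel]
      rwa [h1, (show Commute z d from (hc d).symm).mul_pow, hd, mul_one] at h2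
    have hz1 : z = 1 := by
      calc z = z ^ 9 * (z ^ 8)⁻¹ := by group
        _ = 1 := by rw [hz8, show z ^ 9 = (z ^ 3) ^ 3 by rw [← pow_mul], hz3, one_pow, inv_one, one_mul]
    rwa [hz1, one_mul, mul_inv_eq_iff_eq_mul] at h1
  rw [Subgroup.mem_bot]
  refine (QuotientGroup.eq_one_iff g).2 (Subgroup.mem_center_iff.2 fun t => ThreeTwo.su_ext ?_)
  set G0 := ((g : Matrix.SpecialLinearGroup (Fin 3) K) : Matrix (Fin 3) (Fin 3) K)
  have eD : G0 * matD w = matD w * G0 := congrArg
    (fun a : Cfsg.SU 3 K 2 => ((a : Matrix.SpecialLinearGroup (Fin 3) K) : Matrix (Fin 3) (Fin 3) K))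
    (hcomm _ (elD_pow hw))
  have eP : G0 * matP K = matP K * G0 := congrArg
    (fun a : Cfsg.SU 3 K 2 => ((a : Matrix.SpecialLinearGroup (Fin 3) K) : Matrix (Fin 3) (Fin 3) K))
    (hcomm _ (elP_pow hw))
  have h0 := ThreeTwo.ne_zero hw
  have h1 := ThreeTwo.ne_one hw
  have hroot := hw.root
  have hoff : G0 0 1 = 0 ∧ G0 0 2 = 0 ∧ G0 1 0 = 0 ∧ G0 1 2 = 0 ∧ G0 2 0 = 0 ∧ G0 2 1 = 0 := by
    have e01 := congrFun₂ eD 0 1
    have e02 := congrFun₂ eD 0 2
    have e10 := congrFun₂ eD 1 0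
    have e12 := congrFun₂ eD 1 2
    have e20 := congrFun₂ eD 2 0
    have e21 := congrFun₂ eD 2 1
    simp [matD, Matrix.mul_apply, Fin.sum_univ_three] at e01 e02 e10 e12 e20 e21
    refine ⟨?_, ?_, ?_, ?_, ?_, ?_⟩ <;> grind
  have e0 := congrFun₂ eP 0 1
  have e1 := congrFun₂ eP 1 2
  simp [matP, Matrix.mul_apply, Fin.sum_univ_three] at e0 e1
  have hG : G0 = G0 0 0 • (1 : Matrix (Fin 3) (Fin 3) K) := by
    obtain ⟨a, b, c, d, e', f⟩ := hoff
    ext i j
    fin_cases i <;> fin_cases j <;> simp [a, b, c, d, e', f] <;> grind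
  show ((t : Matrix.SpecialLinearGroup (Fin 3) K) : Matrix (Fin 3) (Fin 3) K) * G0 =
    G0 * ((t : Matrix.SpecialLinearGroup (Fin 3) K) : Matrix (Fin 3) (Fin 3) K)
  rw [hG, Matrix.mul_smul, Matrix.smul_mul, mul_one, one_mul]

/-- A semilinear map intertwining `SU₃(2)` projectively is a scalar. -/
theorem eq_scalar_small (hK : Fintype.card K = 4) (N : GL (Fin 3) K) (ρ : K ≃+* K)
    (h : ∀ s : Cfsg.SU 3 K 2, ∃ c : K, (N : Matrix (Fin 3) (Fin 3) K) *
      ((s : Matrix.SpecialLinearGroup (Fin 3) K) : Matrix (Fin 3) (Fin 3) K).map ρ =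
      c • (((s : Matrix.SpecialLinearGroup (Fin 3) K) : Matrix (Fin 3) (Fin 3) K) *
        (N : Matrix (Fin 3) (Fin 3) K))) :
    ρ = RingEquiv.refl K ∧ ∃ c : Kˣ, (N : Matrix (Fin 3) (Fin 3) K) = (c : K) • 1 := by
  obtain ⟨w, hw⟩ := exists_omega hK
  set M := (N : Matrix (Fin 3) (Fin 3) K) with hM
  have h2 := hw.two
  have hroot := hw.root
  have hw0 := ThreeTwo.ne_zero hw
  have hw1 := ThreeTwo.ne_one hw
  have exact' : ∀ S : Matrix (Fin 3) (Fin 3) K, S.det = 1 → (∀ a b : Fin 3,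
      ∑ i, S i a * (S i b) ^ 2 = if a = b then 1 else 0) → S * S = 1 → M * S.map ρ = S * M := by
    intro S hd hu hS
    let s : Cfsg.SU 3 K 2 := ⟨⟨S, hd⟩, ThreeTwo.mem_SU h2 hu⟩
    obtain ⟨c, hc⟩ := h s
    change M * S.map ρ = c • (S * M) at hc
    have hρ : S.map ρ * S.map ρ = 1 := by
      rw [← Matrix.map_mul, hS, Matrix.map_one _ (map_zero ρ) (map_one ρ)]
    have h3 : M = (c * c) • M := by
      calc M = M * S.map ρ * S.map ρ := by rw [mul_assoc, hρ, mul_one]
        _ = (c * c) • (S * S * M) := by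
          rw [hc, Matrix.smul_mul, mul_assoc S M, hc, Matrix.mul_smul, smul_smul, ← mul_assoc]
        _ = _ := by rw [hS, one_mul]
    have hc1 : c = 1 := by
      obtain ⟨i, j, hij⟩ : ∃ i j, M i j ≠ 0 := by
        by_contra hcon
        push Not at hcon
        exact N.ne_zero (Matrix.ext hcon)
      have h4 := congrFun₂ h3 i j
      rw [Matrix.smul_apply, smul_eq_mul] at h4
      have h5 : (c - 1) * (c - 1) = 0 := by
        have : (c * c - 1) * M i j = 0 := by linear_combination -h4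
        linear_combination (mul_eq_zero.1 this).resolve_right hij - (c - 1) * h2
      exact sub_eq_zero.1 (mul_self_eq_zero.1 h5)
    rw [hc, hc1, one_smul]
  have eA := exact' !![0, 1, 0; 1, 0, 0; 0, 0, 1] (by simp [Matrix.det_fin_three]; grind)
    (fun a b => by fin_cases a <;> fin_cases b <;> simp [Fin.sum_univ_three])
    (by ext i j; fin_cases i <;> fin_cases j <;> simp [Matrix.mul_apply, Fin.sum_univ_three])
  have eB := exact' !![1, 0, 0; 0, 0, 1; 0, 1, 0] (by simp [Matrix.det_fin_three]; grind)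
    (fun a b => by fin_cases a <;> fin_cases b <;> simp [Fin.sum_univ_three])
    (by ext i j; fin_cases i <;> fin_cases j <;> simp [Matrix.mul_apply, Fin.sum_univ_three])
  have eC := exact' !![0, w, 0; w ^ 2, 0, 0; 0, 0, 1] (by simp [Matrix.det_fin_three]; grind)
    (fun a b => by fin_cases a <;> fin_cases b <;> simp [Fin.sum_univ_three] <;> grind)
    (by ext i j; fin_cases i <;> fin_cases j <;> simp [Matrix.mul_apply, Fin.sum_univ_three] <;> grind)
  have a00 := congrFun₂ eA 0 0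
  have a01 := congrFun₂ eA 0 1
  have a02 := congrFun₂ eA 0 2
  have a20 := congrFun₂ eA 2 0
  have b11 := congrFun₂ eB 1 1
  have b12 := congrFun₂ eB 1 2
  have b10 := congrFun₂ eB 1 0
  have b01 := congrFun₂ eB 0 1
  have c02 := congrFun₂ eC 0 2
  have c01 := congrFun₂ eC 0 1
  simp [Matrix.mul_apply, Fin.sum_univ_three] at a00 a01 a02 a20 b11 b12 b10 b01 c02 c01
  have hscal : M = M 0 0 • (1 : Matrix (Fin 3) (Fin 3) K) := by
    ext i j
    fin_cases i <;> fin_cases j <;> simp <;> grind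
  have h00 : M 0 0 ≠ 0 := fun h0 => by
    rw [h0, zero_smul] at hscal
    exact N.ne_zero hscal
  have hρw : ρ w = w := by
    have := congrFun₂ hscal 1 1
    simp at this
    grind
  refine ⟨RingEquiv.ext fun x => ?_, Units.mk0 _ h00, hscal⟩
  rcases eq_or_ne x 0 with rfl | hx
  · simp
  have h4 := FiniteField.pow_card_sub_one_eq_one x hx
  rw [hK, show 4 - 1 = 3 from rfl] at h4
  have h5 : (x - 1) * ((x - w) * (x - w ^ 2)) = 0 := by
    linear_combination h4 - (x - 1) * x * hroot + (x - 1) * (w - 1) * hroot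
  rcases mul_eq_zero.1 h5 with e | e
  · rw [sub_eq_zero] at e; rw [e, map_one, map_one]
  rcases mul_eq_zero.1 e with e | e <;> rw [sub_eq_zero] at e <;> rw [e] <;> simp [hρw]

end CfsgLib.Known.BalancePSU
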